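import Cfsg.Agent.Lib.helper11d.Gaut1

/-! Kernel-checked certificates for the graph automorphisms of `D₄` and `E₆` (generated). -/

set_option autoImplicit false

namespace Cfsg.Agent.Lib.helper11

open Cfsg Cfsg.Lie

def gaBackOK (D : ChevalleyDatum) (qt : List (ℕ × ℤ)) (r : ℕ) : Bool :=
  decide (D.rank ≤ (qt.getD (D.rank + r) (qt.length, 1)).1)

def gaSimpOK (D : ChevalleyDatum) (pt : List (ℕ × ℤ)) (perm : List ℕ) (i : ℕ) : Bool :=
  decide (D.simple i < D.nroots) && decide (D.neg (D.simple i) < D.nroots) &&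
  decide (pt.getD (D.rank + D.simple i) (pt.length, 1) =
    (D.rank + D.simple (perm.getD i 0), 1)) &&
  decide (pt.getD (D.rank + D.neg (D.simple i)) (pt.length, 1) =
    (D.rank + D.neg (D.simple (perm.getD i 0)), 1))

theorem gaCert_of (D : ChevalleyDatum) (pt qt : List (ℕ × ℤ)) (perm : List ℕ) (n k : ℕ)
    (hn : D.nroots = n) (hk : D.rank = k) (hlen : pt.length = D.rank + D.nroots)
    (hinv : gaInvOK pt qt = true)
    (hrows : (List.range' 0 n).all (gaRow D pt) = true)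
    (hback : (List.range' 0 n).all (gaBackOK D qt) = true)
    (hsimp : (List.range' 0 k).all (gaSimpOK D pt perm) = true) : GaCert D pt qt perm := by
  refine ⟨hlen, hinv, fun r hr => ?_, fun r hr => ?_, fun i hi => ?_⟩
  · rw [hn] at hr
    exact all_range' _ 0 n hrows r (by omega) (by omega)
  · rw [hn] at hr
    have := all_range' _ 0 n hback r (by omega) (by omega)
    unfold gaBackOK at this
    rwa [decide_eq_true_eq] at this
  · rw [hk] at hi
    have := all_range' _ 0 k hsimp i (by omega) (by omega)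
    unfold gaSimpOK at this
    simp only [Bool.and_eq_true, decide_eq_true_eq] at this
    exact ⟨this.1.1.1, this.1.1.2, this.1.2, this.2⟩

def gaPtD4a : List (ℕ × ℤ) := [(2, 1), (1, 1), (3, 1), (0, 1), (4, 1), (5, 1), (10, -1), (6, 1), (11, -1), (14, 1), (7, -1), (12, 1), (8, -1), (13, 1), (15, 1), (9, 1), (22, 1), (16, 1), (18, 1), (23, -1), (19, 1), (24, -1), (17, 1), (20, -1), (25, 1), (21, -1), (26, 1), (27, 1)]

def gaQtD4a : List (ℕ × ℤ) := [(3, 1), (1, 1), (0, 1), (2, 1), (4, 1), (5, 1), (7, 1), (10, -1), (12, -1), (15, 1), (6, -1), (8, -1), (11, 1), (13, 1), (9, 1), (14, 1), (17, 1), (22, 1), (18, 1), (20, 1), (23, -1), (25, -1), (16, 1), (19, -1), (21, -1), (24, 1), (26, 1), (27, 1)]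

theorem gaInv_D4a : gaInvOK gaPtD4a gaQtD4a = true := by decide +kernel

theorem gaRows_D4a : (List.range' 0 24).all (gaRow chevD4 gaPtD4a) = true := by
  decide +kernel

theorem gaBack_D4a : (List.range' 0 24).all (gaBackOK chevD4 gaQtD4a) = true := by
  decide +kernel

theorem gaSimp_D4a : (List.range' 0 4).all (gaSimpOK chevD4 gaPtD4a [2, 1, 3, 0]) = true := by
  decide +kernel

theorem gaCert_D4a : GaCert chevD4 gaPtD4a gaQtD4a [2, 1, 3, 0] :=
  gaCert_of chevD4 gaPtD4a gaQtD4a [2, 1, 3, 0] 24 4 rfl rfl (by decide) gaInv_D4a gaRows_D4a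
    gaBack_D4a gaSimp_D4a

def gaPtD4b : List (ℕ × ℤ) := [(3, 1), (1, 1), (0, 1), (2, 1), (4, 1), (5, 1), (7, 1), (10, -1), (12, -1), (15, 1), (6, -1), (8, -1), (11, 1), (13, 1), (9, 1), (14, 1), (17, 1), (22, 1), (18, 1), (20, 1), (23, -1), (25, -1), (16, 1), (19, -1), (21, -1), (24, 1), (26, 1), (27, 1)]

def gaQtD4b : List (ℕ × ℤ) := [(2, 1), (1, 1), (3, 1), (0, 1), (4, 1), (5, 1), (10, -1), (6, 1), (11, -1), (14, 1), (7, -1), (12, 1), (8, -1), (13, 1), (15, 1), (9, 1), (22, 1), (16, 1), (18, 1), (23, -1), (19, 1), (24, -1), (17, 1), (20, -1), (25, 1), (21, -1), (26, 1), (27, 1)]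

theorem gaInv_D4b : gaInvOK gaPtD4b gaQtD4b = true := by decide +kernel

theorem gaRows_D4b : (List.range' 0 24).all (gaRow chevD4 gaPtD4b) = true := by
  decide +kernel

theorem gaBack_D4b : (List.range' 0 24).all (gaBackOK chevD4 gaQtD4b) = true := by
  decide +kernel

theorem gaSimp_D4b : (List.range' 0 4).all (gaSimpOK chevD4 gaPtD4b [3, 1, 0, 2]) = true := by
  decide +kernel

theorem gaCert_D4b : GaCert chevD4 gaPtD4b gaQtD4b [3, 1, 0, 2] :=
  gaCert_of chevD4 gaPtD4b gaQtD4b [3, 1, 0, 2] 24 4 rfl rfl (by decide) gaInv_D4b gaRows_D4b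
    gaBack_D4b gaSimp_D4b

def gaPtE6 : List (ℕ × ℤ) := [(5, 1), (1, 1), (4, 1), (3, 1), (2, 1), (0, 1), (6, 1), (7, 1), (8, 1), (11, 1), (22, -1), (9, 1), (12, 1), (23, -1), (14, 1), (25, -1), (28, -1), (17, 1), (32, -1), (36, 1), (39, -1), (41, 1), (10, -1), (13, -1), (24, 1), (15, -1), (26, 1), (29, 1), (16, -1), (27, 1), (30, 1), (31, 1), (18, -1), (33, 1), (37, -1), (40, 1), (19, 1), (34, -1), (38, 1), (20, -1), (35, 1), (21, 1), (62, 1), (48, 1), (63, -1), (45, 1), (49, -1), (64, 1), (43, 1), (46, -1), (50, 1), (65, -1), (52, 1), (53, 1), (56, 1), (67, -1), (54, 1), (57, 1), (68, -1), (59, 1), (70, -1), (73, -1), (42, 1), (44, -1), (47, 1), (51, -1), (66, 1), (55, -1), (58, -1), (69, 1), (60, -1), (71, 1), (74, 1), (61, -1), (72, 1), (75, 1), (76, 1), (77, 1)]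

def gaQtE6 : List (ℕ × ℤ) := [(5, 1), (1, 1), (4, 1), (3, 1), (2, 1), (0, 1), (6, 1), (7, 1), (8, 1), (11, 1), (22, -1), (9, 1), (12, 1), (23, -1), (14, 1), (25, -1), (28, -1), (17, 1), (32, -1), (36, 1), (39, -1), (41, 1), (10, -1), (13, -1), (24, 1), (15, -1), (26, 1), (29, 1), (16, -1), (27, 1), (30, 1), (31, 1), (18, -1), (33, 1), (37, -1), (40, 1), (19, 1), (34, -1), (38, 1), (20, -1), (35, 1), (21, 1), (62, 1), (48, 1), (63, -1), (45, 1), (49, -1), (64, 1), (43, 1), (46, -1), (50, 1), (65, -1), (52, 1), (53, 1), (56, 1), (67, -1), (54, 1), (57, 1), (68, -1), (59, 1), (70, -1), (73, -1), (42, 1), (44, -1), (47, 1), (51, -1), (66, 1), (55, -1), (58, -1), (69, 1), (60, -1), (71, 1), (74, 1), (61, -1), (72, 1), (75, 1), (76, 1), (77, 1)]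

theorem gaInv_E6 : gaInvOK gaPtE6 gaQtE6 = true := by decide +kernel

theorem gaRows_E6 : (List.range' 0 72).all (gaRow chevE6 gaPtE6) = true := by
  decide +kernel

theorem gaBack_E6 : (List.range' 0 72).all (gaBackOK chevE6 gaQtE6) = true := by
  decide +kernel

theorem gaSimp_E6 : (List.range' 0 6).all (gaSimpOK chevE6 gaPtE6 [5, 1, 4, 3, 2, 0]) = true := by
  decide +kernel

theorem gaCert_E6 : GaCert chevE6 gaPtE6 gaQtE6 [5, 1, 4, 3, 2, 0] :=
  gaCert_of chevE6 gaPtE6 gaQtE6 [5, 1, 4, 3, 2, 0] 72 6 rfl rfl (by decide) gaInv_E6 gaRows_E6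
    gaBack_E6 gaSimp_E6

end Cfsg.Agent.Lib.helper11
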