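import Cfsg.Agent.Lib.helper11d.Pair1

/-! Certificates for pairs of highest root subgroups. -/

set_option autoImplicit false

namespace Cfsg.Agent.Lib.helper11

open Cfsg Cfsg.Lie

theorem cenCert_D4 : CenCert chevD4 23 0 [5, 10, 11] 1 22 (-1) where
  hpos := by decide +kernel
  hcp := by decide +kernel
  hJ := by decide +kernel
  hi₀ := by decide +kernel
  hsimple := by decide +kernel
  hcart1 := by decide +kernel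
  hcart0 := by decide +kernel
  hnc := by decide +kernel
  hC := Or.inr rfl
  hq := by decide +kernel
  hne := by decide +kernel

def pairCertG2 : List (List ℕ) :=
  [[], [1, 0], [0, 1, 0], [0, 1], [0], [1]]

theorem pairRow_G2_0 : (List.range' 0 6).all (pairRow chevG2 11 pairCertG2) = true := by
  decide +kernel

theorem pairRow_G2_1 : (List.range' 6 6).all (pairRow chevG2 11 pairCertG2) = true := by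
  decide +kernel

theorem pairRow_G2 (s : ℕ) (hs : s < chevG2.nroots) : pairRow chevG2 11 pairCertG2 s = true := by
  have hn : chevG2.nroots = 12 := rfl
  rw [hn] at hs
  by_cases h0 : s < 6
  · exact all_range' _ 0 6 pairRow_G2_0 s (by omega) (by omega)
  exact all_range' _ 6 6 pairRow_G2_1 s (by omega) (by omega)

def pairCertD4 : List (List ℕ) :=
  [[], [3, 1, 2, 0], [2, 1, 0], [3, 1, 0], [1, 0], [0], [3, 1, 2], [2, 1], [3, 1], [1], [2], [3]]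

theorem pairRow_D4_0 : (List.range' 0 12).all (pairRow chevD4 23 pairCertD4) = true := by
  decide +kernel

theorem pairRow_D4_1 : (List.range' 12 12).all (pairRow chevD4 23 pairCertD4) = true := by
  decide +kernel

theorem pairRow_D4 (s : ℕ) (hs : s < chevD4.nroots) : pairRow chevD4 23 pairCertD4 s = true := by
  have hn : chevD4.nroots = 24 := rfl
  rw [hn] at hs
  by_cases h0 : s < 12
  · exact all_range' _ 0 12 pairRow_D4_0 s (by omega) (by omega)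
  exact all_range' _ 12 12 pairRow_D4_1 s (by omega) (by omega)

def pairCertE6 : List (List ℕ) :=
  [[], [5, 4, 3, 2, 1, 3, 4, 0, 2, 3], [5, 4, 3, 2, 1, 3, 4, 0, 2], [5, 4, 3, 2, 1, 3, 0, 2], [4, 3, 2, 1, 3, 0, 2], [5, 4, 3, 2, 1, 3, 4, 0], [5, 4, 3, 2, 1, 3, 0], [4, 3, 2, 1, 3, 0], [5, 4, 3, 2, 1, 0], [4, 3, 2, 1, 0], [3, 2, 1, 0], [5, 4, 3, 2, 0], [4, 3, 2, 0], [3, 2, 0], [2, 0], [0], [5, 4, 3, 2, 1, 3, 4], [5, 4, 3, 2, 1, 3], [4, 3, 2, 1, 3], [5, 4, 3, 2, 1], [4, 3, 2, 1], [3, 2, 1], [5, 4, 3, 1], [4, 3, 1], [3, 1], [1], [5, 4, 3, 2], [4, 3, 2], [3, 2], [2], [5, 4, 3], [4, 3], [3], [5, 4], [4], [5]]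

theorem pairRow_E6_0 : (List.range' 0 36).all (pairRow chevE6 71 pairCertE6) = true := by
  decide +kernel

theorem pairRow_E6_1 : (List.range' 36 36).all (pairRow chevE6 71 pairCertE6) = true := by
  decide +kernel

theorem pairRow_E6 (s : ℕ) (hs : s < chevE6.nroots) : pairRow chevE6 71 pairCertE6 s = true := by
  have hn : chevE6.nroots = 72 := rfl
  rw [hn] at hs
  by_cases h0 : s < 36
  · exact all_range' _ 0 36 pairRow_E6_0 s (by omega) (by omega)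
  exact all_range' _ 36 36 pairRow_E6_1 s (by omega) (by omega)

def pairCertE7 : List (List ℕ) :=
  [[], [6, 5, 4, 3, 2, 1, 3, 4, 5, 0, 2, 3, 4, 1, 3, 2], [6, 5, 4, 3, 2, 1, 3, 4, 5, 0, 2, 3, 4, 1, 3], [6, 5, 4, 3, 2, 1, 3, 4, 5, 0, 2, 3, 4, 1], [6, 5, 4, 3, 2, 1, 3, 4, 5, 0, 2, 3, 1], [6, 5, 4, 3, 2, 1, 3, 4, 0, 2, 3, 1], [5, 4, 3, 2, 1, 3, 4, 0, 2, 3, 1], [6, 5, 4, 3, 2, 1, 3, 4, 5, 0, 2, 3, 4], [6, 5, 4, 3, 2, 1, 3, 4, 5, 0, 2, 3], [6, 5, 4, 3, 2, 1, 3, 4, 0, 2, 3], [5, 4, 3, 2, 1, 3, 4, 0, 2, 3], [6, 5, 4, 3, 2, 1, 3, 4, 5, 0, 2], [6, 5, 4, 3, 2, 1, 3, 4, 0, 2], [5, 4, 3, 2, 1, 3, 4, 0, 2], [6, 5, 4, 3, 2, 1, 3, 0, 2], [5, 4, 3, 2, 1, 3, 0, 2], [4, 3, 2, 1, 3, 0, 2], [6, 5, 4, 3, 2, 1, 3, 4, 5, 0], [6, 5, 4, 3, 2, 1, 3, 4, 0], [5, 4, 3, 2, 1, 3, 4, 0], [6, 5, 4, 3, 2, 1, 3, 0], [5,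 4, 3, 2, 1, 3, 0], [4, 3, 2, 1, 3, 0], [6, 5, 4, 3, 2, 1, 0], [5, 4, 3, 2, 1, 0], [4, 3, 2, 1, 0], [3, 2, 1, 0], [6, 5, 4, 3, 2, 0], [5, 4, 3, 2, 0], [4, 3, 2, 0], [3, 2, 0], [2, 0], [0], [6, 5, 4, 3, 2, 1, 3, 4, 5], [6, 5, 4, 3, 2, 1, 3, 4], [5, 4, 3, 2, 1, 3, 4], [6, 5, 4, 3, 2, 1, 3], [5, 4, 3, 2, 1, 3], [4, 3, 2, 1, 3], [6, 5, 4, 3, 2, 1], [5, 4, 3, 2, 1], [4, 3, 2, 1], [3, 2, 1], [6, 5, 4, 3, 1], [5, 4, 3, 1], [4, 3, 1], [3, 1], [1], [6, 5, 4, 3, 2], [5, 4, 3, 2], [4, 3, 2], [3, 2], [2], [6, 5, 4, 3], [5, 4, 3], [4, 3], [3], [6, 5, 4], [5, 4], [4], [6, 5], [5], [6]]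

theorem pairRow_E7_0 : (List.range' 0 21).all (pairRow chevE7 125 pairCertE7) = true := by
  decide +kernel

theorem pairRow_E7_1 : (List.range' 21 21).all (pairRow chevE7 125 pairCertE7) = true := by
  decide +kernel

theorem pairRow_E7_2 : (List.range' 42 21).all (pairRow chevE7 125 pairCertE7) = true := by
  decide +kernel

theorem pairRow_E7_3 : (List.range' 63 63).all (pairRow chevE7 125 pairCertE7) = true := by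
  decide +kernel

theorem pairRow_E7 (s : ℕ) (hs : s < chevE7.nroots) : pairRow chevE7 125 pairCertE7 s = true := by
  have hn : chevE7.nroots = 126 := rfl
  rw [hn] at hs
  by_cases h0 : s < 21
  · exact all_range' _ 0 21 pairRow_E7_0 s (by omega) (by omega)
  by_cases h1 : s < 42
  · exact all_range' _ 21 21 pairRow_E7_1 s (by omega) (by omega)
  by_cases h2 : s < 63
  · exact all_range' _ 42 21 pairRow_E7_2 s (by omega) (by omega)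
  exact all_range' _ 63 63 pairRow_E7_3 s (by omega) (by omega)

def pairCertE8 : List (List ℕ) :=
  [[], [7, 6, 5, 4, 3, 2, 1, 3, 4, 5, 6, 0, 2, 3, 4, 5, 1, 3, 4, 2, 3, 0, 2, 1, 3, 4, 5, 6], [7, 6, 5, 4, 3, 2, 1, 3, 4, 5, 6, 0, 2, 3, 4, 5, 1, 3, 4, 2, 3, 0, 2, 1, 3, 4, 5], [7, 6, 5, 4, 3, 2, 1, 3, 4, 5, 6, 0, 2, 3, 4, 5, 1, 3, 4, 2, 3, 0, 2, 1, 3, 4], [7, 6, 5, 4, 3, 2, 1, 3, 4, 5, 6, 0, 2, 3, 4, 5, 1, 3, 4, 2, 3, 0, 2, 1, 3], [7, 6, 5, 4, 3, 2, 1, 3, 4, 5, 6, 0, 2, 3, 4, 5, 1, 3, 4, 2, 3, 0, 2, 1], [7, 6, 5, 4, 3, 2, 1, 3, 4, 5, 6, 0, 2, 3, 4, 5, 1, 3, 4, 2, 3, 1, 0], [7, 6, 5, 4, 3, 2, 1, 3, 4, 5, 6, 0, 2, 3, 4, 5, 1, 3, 4, 2, 3, 0, 2], [7, 6, 5, 4, 3, 2, 1, 3, 4, 5, 6, 0, 2, 3, 4, 5, 1, 3, 4, 2, 3, 0], [7, 6, 5, 4, 3, 2, 1, 3, 4, 5, 6, 0, 2, 3, 4, 5, 1, 3, 4, 2, 0], [7, 6, 5, 4, 3,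 2, 1, 3, 4, 5, 6, 0, 2, 3, 4, 5, 1, 3, 2, 0], [7, 6, 5, 4, 3, 2, 1, 3, 4, 5, 6, 0, 2, 3, 4, 1, 3, 2, 0], [7, 6, 5, 4, 3, 2, 1, 3, 4, 5, 0, 2, 3, 4, 1, 3, 2, 0], [6, 5, 4, 3, 2, 1, 3, 4, 5, 0, 2, 3, 4, 1, 3, 2, 0], [7, 6, 5, 4, 3, 2, 1, 3, 4, 5, 6, 0, 2, 3, 4, 5, 1, 3, 4, 2, 3, 1], [7, 6, 5, 4, 3, 2, 1, 3, 4, 5, 6, 0, 2, 3, 4, 5, 1, 3, 4, 2, 3], [7, 6, 5, 4, 3, 2, 1, 3, 4, 5, 6, 0, 2, 3, 4, 5, 1, 3, 4, 2], [7, 6, 5, 4, 3, 2, 1, 3, 4, 5, 6, 0, 2, 3, 4, 5, 1, 3, 2], [7, 6, 5, 4, 3, 2, 1, 3, 4, 5, 6, 0, 2, 3, 4, 1, 3, 2], [7, 6, 5, 4, 3, 2, 1, 3, 4, 5, 0, 2, 3, 4, 1, 3, 2], [6, 5, 4, 3, 2, 1, 3, 4, 5, 0, 2, 3, 4, 1, 3, 2], [7, 6, 5, 4, 3, 2, 1, 3, 4, 5, 6, 0, 2, 3, 4, 5, 1, 3, 4], [7, 6, 5, 4, 3, 2, 1, 3, 4, 5, 6, 0, 2, 3, 4, 5, 1, 3], [7, 6, 5, 4, 3, 2, 1, 3, 4, 5, 6, 0, 2, 3, 4, 1, 3], [7,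 6, 5, 4, 3, 2, 1, 3, 4, 5, 0, 2, 3, 4, 1, 3], [6, 5, 4, 3, 2, 1, 3, 4, 5, 0, 2, 3, 4, 1, 3], [7, 6, 5, 4, 3, 2, 1, 3, 4, 5, 6, 0, 2, 3, 4, 5, 1], [7, 6, 5, 4, 3, 2, 1, 3, 4, 5, 6, 0, 2, 3, 4, 1], [7, 6, 5, 4, 3, 2, 1, 3, 4, 5, 0, 2, 3, 4, 1], [6, 5, 4, 3, 2, 1, 3, 4, 5, 0, 2, 3, 4, 1], [7, 6, 5, 4, 3, 2, 1, 3, 4, 5, 6, 0, 2, 3, 1], [7, 6, 5, 4, 3, 2, 1, 3, 4, 5, 0, 2, 3, 1], [6, 5, 4, 3, 2, 1, 3, 4, 5, 0, 2, 3, 1], [7, 6, 5, 4, 3, 2, 1, 3, 4, 0, 2, 3, 1], [6, 5, 4, 3, 2, 1, 3, 4, 0, 2, 3, 1], [5, 4, 3, 2, 1, 3, 4, 0, 2, 3, 1], [7, 6, 5, 4, 3, 2, 1, 3, 4, 5, 6, 0, 2, 3, 4, 5], [7, 6, 5, 4, 3, 2, 1, 3, 4, 5, 6, 0, 2, 3, 4], [7, 6, 5, 4, 3, 2, 1, 3, 4, 5, 0, 2, 3, 4], [6, 5, 4, 3, 2, 1, 3, 4, 5, 0, 2, 3, 4], [7, 6, 5, 4, 3, 2, 1, 3, 4, 5, 6, 0, 2, 3], [7, 6, 5, 4, 3, 2, 1, 3, 4, 5, 0, 2, 3],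 [6, 5, 4, 3, 2, 1, 3, 4, 5, 0, 2, 3], [7, 6, 5, 4, 3, 2, 1, 3, 4, 0, 2, 3], [6, 5, 4, 3, 2, 1, 3, 4, 0, 2, 3], [5, 4, 3, 2, 1, 3, 4, 0, 2, 3], [7, 6, 5, 4, 3, 2, 1, 3, 4, 5, 6, 0, 2], [7, 6, 5, 4, 3, 2, 1, 3, 4, 5, 0, 2], [6, 5, 4, 3, 2, 1, 3, 4, 5, 0, 2], [7, 6, 5, 4, 3, 2, 1, 3, 4, 0, 2], [6, 5, 4, 3, 2, 1, 3, 4, 0, 2], [5, 4, 3, 2, 1, 3, 4, 0, 2], [7, 6, 5, 4, 3, 2, 1, 3, 0, 2], [6, 5, 4, 3, 2, 1, 3, 0, 2], [5, 4, 3, 2, 1, 3, 0, 2], [4, 3, 2, 1, 3, 0, 2], [7, 6, 5, 4, 3, 2, 1, 3, 4, 5, 6, 0], [7, 6, 5, 4, 3, 2, 1, 3, 4, 5, 0], [6, 5, 4, 3, 2, 1, 3, 4, 5, 0], [7, 6, 5, 4, 3, 2, 1, 3, 4, 0], [6, 5, 4, 3, 2, 1, 3, 4, 0], [5, 4, 3, 2, 1, 3, 4, 0], [7, 6, 5, 4, 3, 2, 1, 3, 0], [6, 5, 4, 3, 2, 1, 3, 0], [5, 4, 3, 2, 1, 3, 0], [4, 3, 2, 1, 3, 0], [7, 6, 5, 4, 3, 2, 1, 0], [6, 5, 4, 3, 2, 1,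 0], [5, 4, 3, 2, 1, 0], [4, 3, 2, 1, 0], [3, 2, 1, 0], [7, 6, 5, 4, 3, 2, 0], [6, 5, 4, 3, 2, 0], [5, 4, 3, 2, 0], [4, 3, 2, 0], [3, 2, 0], [2, 0], [0], [7, 6, 5, 4, 3, 2, 1, 3, 4, 5, 6], [7, 6, 5, 4, 3, 2, 1, 3, 4, 5], [6, 5, 4, 3, 2, 1, 3, 4, 5], [7, 6, 5, 4, 3, 2, 1, 3, 4], [6, 5, 4, 3, 2, 1, 3, 4], [5, 4, 3, 2, 1, 3, 4], [7, 6, 5, 4, 3, 2, 1, 3], [6, 5, 4, 3, 2, 1, 3], [5, 4, 3, 2, 1, 3], [4, 3, 2, 1, 3], [7, 6, 5, 4, 3, 2, 1], [6, 5, 4, 3, 2, 1], [5, 4, 3, 2, 1], [4, 3, 2, 1], [3, 2, 1], [7, 6, 5, 4, 3, 1], [6, 5, 4, 3, 1], [5, 4, 3, 1], [4, 3, 1], [3, 1], [1], [7, 6, 5, 4, 3, 2], [6, 5, 4, 3, 2], [5, 4, 3, 2], [4, 3, 2], [3, 2], [2], [7, 6, 5, 4, 3], [6, 5, 4, 3], [5, 4, 3], [4, 3], [3], [7, 6, 5, 4], [6, 5, 4], [5, 4], [4], [7, 6, 5], [6, 5], [5], [7, 6], [6], [7]]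

theorem pairRow_E8_0 : (List.range' 0 20).all (pairRow chevE8 239 pairCertE8) = true := by
  decide +kernel

theorem pairRow_E8_1 : (List.range' 20 20).all (pairRow chevE8 239 pairCertE8) = true := by
  decide +kernel

theorem pairRow_E8_2 : (List.range' 40 20).all (pairRow chevE8 239 pairCertE8) = true := by
  decide +kernel

theorem pairRow_E8_3 : (List.range' 60 20).all (pairRow chevE8 239 pairCertE8) = true := by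
  decide +kernel

theorem pairRow_E8_4 : (List.range' 80 20).all (pairRow chevE8 239 pairCertE8) = true := by
  decide +kernel

theorem pairRow_E8_5 : (List.range' 100 20).all (pairRow chevE8 239 pairCertE8) = true := by
  decide +kernel

theorem pairRow_E8_6 : (List.range' 120 120).all (pairRow chevE8 239 pairCertE8) = true := by
  decide +kernel

theorem pairRow_E8 (s : ℕ) (hs : s < chevE8.nroots) : pairRow chevE8 239 pairCertE8 s = true := by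
  have hn : chevE8.nroots = 240 := rfl
  rw [hn] at hs
  by_cases h0 : s < 20
  · exact all_range' _ 0 20 pairRow_E8_0 s (by omega) (by omega)
  by_cases h1 : s < 40
  · exact all_range' _ 20 20 pairRow_E8_1 s (by omega) (by omega)
  by_cases h2 : s < 60
  · exact all_range' _ 40 20 pairRow_E8_2 s (by omega) (by omega)
  by_cases h3 : s < 80
  · exact all_range' _ 60 20 pairRow_E8_3 s (by omega) (by omega)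
  by_cases h4 : s < 100
  · exact all_range' _ 80 20 pairRow_E8_4 s (by omega) (by omega)
  by_cases h5 : s < 120
  · exact all_range' _ 100 20 pairRow_E8_5 s (by omega) (by omega)
  exact all_range' _ 120 120 pairRow_E8_6 s (by omega) (by omega)

end Cfsg.Agent.Lib.helper11
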